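import Cfsg.Agent.Lib.Tech46.Terminal.Main
import Cfsg.Prelude.Def_EvenTechniques

/-!
`p`-components of subnormal subgroups and of quotients.
-/

set_option autoImplicit false

namespace CfsgLib.Tech46.BBalance

open Subgroup CfsgLib.Components
open scoped commutatorElement

/-- A perfect group with a quasisimple central quotient is quasisimple. -/
theorem quasisimple_of_central_quotient {H : Type*} [Group H] {Q : Type*} [Group Q]
    (hperf : _root_.commutator H = ⊤) (f : H →* Q) (hf : Function.Surjective f) (hker : f.ker ≤ center H)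
    (hQ : Cfsg.IsQuasisimple Q) : Cfsg.IsQuasisimple H := by
  haveI := quasisimple_nontrivial hQ
  haveI : Nontrivial H := hf.nontrivial
  refine isQuasisimple_of_normal hperf fun N hN hne => ?_
  haveI := hN.map f hf
  obtain htop | hcen := quasisimple_normal_eq_top_or_le_center hQ (N.map f)
  · exfalso
    apply hne
    have h1 : N ⊔ f.ker = ⊤ := by rw [← comap_map_eq, htop, comap_top]
    rw [eq_top_iff, ← hperf, _root_.commutator_def, commutator_le]
    intro a _ b _
    have hN' : ∀ g : H, ∃ n ∈ N, ∃ c ∈ f.ker, g = n * c := fun g => by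
      have hg : g ∈ N ⊔ f.ker := h1 ▸ mem_top g
      obtain ⟨n, hn, c, hc, h⟩ := mem_sup_of_normal_left.mp hg
      exact ⟨n, hn, c, hc, h.symm⟩
    obtain ⟨n, hn, c, hc, rfl⟩ := hN' a
    obtain ⟨m, hm, d, hd, rfl⟩ := hN' b
    have hc' : ∀ x : H, Commute c x := fun x => (mem_center_iff.mp (hker hc) x).symm
    have hd' : ∀ x : H, Commute d x := fun x => (mem_center_iff.mp (hker hd) x).symm
    have e : ⁅n * c, m * d⁆ = ⁅n, m⁆ := by
      rw [commutatorElement_def, commutatorElement_def, mul_inv_rev, mul_inv_rev]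
      calc n * c * (m * d) * (c⁻¹ * n⁻¹) * (d⁻¹ * m⁻¹) = n * (c * (m * d)) * (c⁻¹ * n⁻¹) * (d⁻¹ * m⁻¹) := by group
        _ = n * ((m * d) * c) * (c⁻¹ * n⁻¹) * (d⁻¹ * m⁻¹) := by rw [(hc' _).eq]
        _ = n * m * (d * n⁻¹) * (d⁻¹ * m⁻¹) := by group
        _ = n * m * (n⁻¹ * d) * (d⁻¹ * m⁻¹) := by rw [(hd' _).eq]
        _ = n * m * n⁻¹ * m⁻¹ := by group
    rw [e, commutatorElement_def]
    exact mul_mem (mul_mem (mul_mem hn hm) (inv_mem hn)) (inv_mem hm)
  · have h1 : ⁅N, ⊤⁆ ≤ center H := by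
      refine le_trans ?_ hker
      rw [← Subgroup.map_eq_bot_iff, map_commutator, commutator_eq_bot_iff_le_centralizer]
      refine hcen.trans ?_
      rw [← centralizer_univ]
      exact centralizer_le (Set.subset_univ _)
    have h2 : ⁅⁅N, (⊤ : Subgroup H)⁆, (⊤ : Subgroup H)⁆ = ⊥ := by
      rw [commutator_eq_bot_iff_le_centralizer, coe_top, centralizer_univ]
      exact h1
    have h2' : ⁅⁅(⊤ : Subgroup H), N⁆, (⊤ : Subgroup H)⁆ = ⊥ := by rwa [commutator_comm ⊤ N]
    have h3 : ⁅⁅(⊤ : Subgroup H), (⊤ : Subgroup H)⁆, N⁆ = ⊥ :=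
      commutator_commutator_eq_bot_of_rotate h2' h2
    rw [← _root_.commutator_def, hperf, commutator_comm, commutator_eq_bot_iff_le_centralizer, coe_top,
      centralizer_univ] at h3
    exact h3

variable {Z : Type*} [Group Z] [Finite Z] {p : ℕ} [hp : Fact p.Prime]

omit [Finite Z] hp in
/-- An isomorphism preserves being quasisimple for images of subgroups. -/
theorem isQuasisimple_subgroupOf_iff {H L : Subgroup Z} (hle : L ≤ H) :
    Cfsg.IsQuasisimple (L.subgroupOf H) ↔ Cfsg.IsQuasisimple L :=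
  isQuasisimple_congr (subgroupOfEquivOfLe hle)

/-- A `p`-component of a subnormal subgroup is a `p`-component. -/
theorem isPComponent_map_subtype {H : Subgroup Z} (hH : H.IsSubnormal) {L : Subgroup H}
    (hL : Cfsg.IsPComponent p L) : Cfsg.IsPComponent p (L.map H.subtype) := by
  set qZ := QuotientGroup.mk' (Cfsg.pPrimeCore p Z)
  set qH := QuotientGroup.mk' (Cfsg.pPrimeCore p ↥H)
  let θ : (↥H ⧸ Cfsg.pPrimeCore p ↥H) →* Z ⧸ Cfsg.pPrimeCore p Z :=
    QuotientGroup.lift _ (qZ.comp H.subtype) fun h hh => by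
      refine MonoidHom.mem_ker.mpr ((QuotientGroup.eq_one_iff _).mpr ?_)
      exact CfsgLib.PCore.map_pPrimeCore_subtype_of_isSubnormal hH ⟨h, hh, rfl⟩
  have hθ : Function.Injective θ := by
    rw [injective_iff_map_eq_one]
    intro z hz
    obtain ⟨h, rfl⟩ := QuotientGroup.mk'_surjective _ z
    have h1 : (h : Z) ∈ (Cfsg.pPrimeCore p ↥H).map H.subtype := by
      rw [map_pPrimeCore_eq_inf hH]
      exact mem_inf.mpr ⟨h.2, (QuotientGroup.eq_one_iff _).mp hz⟩
    obtain ⟨h', hh', he⟩ := h1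
    exact (QuotientGroup.eq_one_iff _).mpr (Subtype.ext he ▸ hh')
  have hmap : ∀ A : Subgroup H, (A.map qH).map θ = (A.map H.subtype).map qZ := by
    intro A
    rw [map_map, map_map]
    rfl
  have hLs : (L.map H.subtype).IsSubnormal := hL.1.trans' hH
  refine ⟨hLs, ⟨hLs.map (QuotientGroup.mk'_surjective _), ?_⟩, ?_⟩
  · exact isQuasisimple_of_mulEquiv hL.2.1.2
      ((equivMapOfInjective _ θ hθ).trans (MulEquiv.subgroupCongr (hmap L)))
  · intro A hA hAL hAeq
    have hAH : A ≤ H := hAL.trans (map_subtype_le L)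
    have h1 : A.subgroupOf H = L := by
      refine hL.2.2 _ (hA.comap H.subtype) ?_ (map_injective hθ ?_)
      · intro a ha
        obtain ⟨l, hl, he⟩ := hAL ha
        exact Subtype.ext he ▸ hl
      · rw [hmap, hmap, map_subgroupOf_eq_of_le hAH, hAeq]
    rw [← h1, map_subgroupOf_eq_of_le hAH]

theorem isPComponent_of_subgroupOf {H L : Subgroup Z} (hH : H.IsSubnormal) (hle : L ≤ H)
    (hL : Cfsg.IsPComponent p (L.subgroupOf H)) : Cfsg.IsPComponent p L := by
  have := isPComponent_map_subtype hH hL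
  rwa [map_subgroupOf_eq_of_le hle] at this

/-- A `p`-component lies in a subnormal subgroup or commutes with it modulo the core. -/
theorem pComponent_le_or_commutator {K M : Subgroup Z} (hK : Cfsg.IsPComponent p K) (hM : M.IsSubnormal) :
    K ≤ M ∨ ⁅K, M⁆ ≤ Cfsg.pPrimeCore p Z := by
  set q := QuotientGroup.mk' (Cfsg.pPrimeCore p Z)
  obtain h | h := le_or_commutator_eq_bot hK.2.1 (hM.map (f := q) (QuotientGroup.mk'_surjective _))
  · left
    rw [map_le_iff_le_comap, comap_map_eq, QuotientGroup.ker_mk'] at h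
    exact ((pComponent_le_pElemClosure hK).trans (pElemClosure_mono h)).trans
      (pElemClosure_le_of_coprime hM (CfsgLib.PCore.pPrimeCore_coprime.coprime_dvd_left
        (relIndex_dvd_card_of_le_sup le_sup_left le_rfl)))
  · right
    rwa [← map_commutator, Subgroup.map_eq_bot_iff, QuotientGroup.ker_mk'] at h

/-- A homomorphism of a `p`-component into a group killing a normal subgroup of index prime to `p` is
trivial. -/
theorem hom_eq_one_of_coprime {K : Subgroup Z} (hK : Cfsg.IsPComponent p K) {Q : Type*} [Group Q]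
    (f : K →* Q) (hcop : (Nat.card f.range).Coprime p) (k : K) : f k = 1 :=
  MonoidHom.mem_ker.mp ((pComponent_eq_top_of_coprime_index hK f.ker (by rwa [index_ker])).ge (mem_top k))

/-- The image of a `p`-component under a surjection is a `p`-component unless it lies in the core. -/
theorem isPComponent_map {Q : Type*} [Group Q] [Finite Q] {f : Z →* Q} (hf : Function.Surjective f)
    {K : Subgroup Z} (hK : Cfsg.IsPComponent p K) (hne : ¬ K.map f ≤ Cfsg.pPrimeCore p Q) :
    Cfsg.IsPComponent p (K.map f) := by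
  set qZ := QuotientGroup.mk' (Cfsg.pPrimeCore p Z)
  set qQ := QuotientGroup.mk' (Cfsg.pPrimeCore p Q)
  let fb : (Z ⧸ Cfsg.pPrimeCore p Z) →* Q ⧸ Cfsg.pPrimeCore p Q :=
    QuotientGroup.map _ _ f (map_le_iff_le_comap.mp (CfsgLib.PCore.map_pPrimeCore_le f hf))
  have hfb : Function.Surjective fb := by
    intro y
    obtain ⟨y, rfl⟩ := QuotientGroup.mk'_surjective _ y
    obtain ⟨x, rfl⟩ := hf y
    exact ⟨QuotientGroup.mk x, rfl⟩
  have hcomm : (K.map f).map qQ = (K.map qZ).map fb := by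
    rw [map_map, map_map]
    rfl
  have hne' : (K.map f).map qQ ≠ ⊥ := by rwa [Ne, Subgroup.map_eq_bot_iff, QuotientGroup.ker_mk']
  obtain h | hc := map_component_eq_bot_or_isComponent hfb hK.2.1
  · exact absurd (hcomm.trans h) hne'
  rw [← hcomm] at hc
  set P0 := pElemClosure p (((K.map f).map qQ).comap qQ)
  have hP0 : Cfsg.IsPComponent p P0 := isPComponent_pElemClosure_comap hc
  have hle : K.map f ≤ P0 := by
    refine (map_mono (pComponent_le_pElemClosure hK)).trans ?_
    rw [map_pElemClosure]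
    exact pElemClosure_mono (le_comap_map _ _)
  have hdvd : p ∣ Nat.card (K.map f) :=
    (dvd_card_component CfsgLib.PCore.pPrimeCore_quotient_pPrimeCore hc).trans (card_map_dvd _ _)
  rw [pComponent_eq_of_perfect_le hP0 hle (hK.1.map hf)
    (by rw [← map_commutator, pComponent_commutator_self hK]) hdvd]
  exact hP0

/-- A perfect subgroup inside the join with a central subgroup is inside. -/
theorem le_of_perfect_le_sup_central {K B C : Subgroup Z} (hK : ⁅K, K⁆ = K) [B.Normal]
    (hC : C ≤ centralizer (B : Set Z)) (hCC : C ≤ centralizer (C : Set Z)) (hle : K ≤ B ⊔ C) : K ≤ B := by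
  rw [← hK, commutator_le]
  intro a ha b hb
  obtain ⟨n, hn, c, hc, rfl⟩ := mem_sup_of_normal_left.mp (hle ha)
  obtain ⟨m, hm, d, hd, rfl⟩ := mem_sup_of_normal_left.mp (hle hb)
  have hcm : Commute c m := (mem_centralizer_iff.mp (hC hc) m hm).symm
  have hcd : Commute c d := (mem_centralizer_iff.mp (hCC hc) d hd).symm
  have hdn : Commute d n := (mem_centralizer_iff.mp (hC hd) n hn).symm
  have e : ⁅n * c, m * d⁆ = ⁅n, m⁆ := by
    rw [commutatorElement_def, commutatorElement_def, mul_inv_rev, mul_inv_rev]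
    calc n * c * (m * d) * (c⁻¹ * n⁻¹) * (d⁻¹ * m⁻¹) = n * (c * (m * d)) * (c⁻¹ * n⁻¹) * (d⁻¹ * m⁻¹) := by group
      _ = n * ((m * d) * c) * (c⁻¹ * n⁻¹) * (d⁻¹ * m⁻¹) := by rw [(hcm.mul_right hcd).eq]
      _ = n * m * (d * n⁻¹) * (d⁻¹ * m⁻¹) := by group
      _ = n * m * (n⁻¹ * d) * (d⁻¹ * m⁻¹) := by rw [hdn.inv_right.eq]
      _ = n * m * n⁻¹ * m⁻¹ := by group
  rw [e, commutatorElement_def]
  exact mul_mem (mul_mem (mul_mem hn hm) (inv_mem hn)) (inv_mem hm)

end CfsgLib.Tech46.BBalance
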